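import Mathlib
set_option linter.all false

-- part: H889/C7/TD
section
/-!
Two-factor tensor decompositions `V = W ⊗ B`, `W = F^k` with an alternating non-degenerate form `ω`, described by
the maps `ι w : B → V`, `b ↦ w ⊗ b`, and the contractions `κ u : V → B`, `w ⊗ b ↦ ω u w • b`.
-/

set_option autoImplicit false
set_option linter.unusedSectionVars false

namespace Cfsg.Agent.H889.C7

open Module

variable {F : Type*} [Field F] {k : ℕ}

/-- `ω` is alternating and non-degenerate. -/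
structure Symp (ω : LinearMap.BilinForm F (Fin k → F)) : Prop where
  alt : ∀ u, ω u u = 0
  nd : ∀ u, (∀ v, ω u v = 0) → u = 0

namespace Symp

variable {ω : LinearMap.BilinForm F (Fin k → F)} (hω : Symp ω)
include hω

theorem skew (u v : Fin k → F) : ω u v = -ω v u := by
  have h := hω.alt (u + v)
  simp only [map_add, LinearMap.add_apply, hω.alt, zero_add, add_zero] at h
  exact eq_neg_of_add_eq_zero_right h

theorem exists_repr (φ : (Fin k → F) →ₗ[F] F) : ∃ u, ∀ w, ω u w = φ w := by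
  have hinj : Function.Injective (ω : (Fin k → F) →ₗ[F] ((Fin k → F) →ₗ[F] F)) := by
    rw [← LinearMap.ker_eq_bot, LinearMap.ker_eq_bot']
    intro u hu
    exact hω.nd u fun v => by rw [hu]; rfl
  have hfin : finrank F (Fin k → F) = finrank F ((Fin k → F) →ₗ[F] F) :=
    (Subspace.dual_finrank_eq (K := F) (V := Fin k → F)).symm
  have hsurj := (LinearMap.injective_iff_surjective_of_finrank_eq_finrank hfin).1 hinj
  obtain ⟨u, hu⟩ := hsurj φ
  exact ⟨u, fun w => by rw [hu]⟩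

theorem exists_pair {a : Fin k → F} (ha : a ≠ 0) : ∃ b, ω a b = 1 := by
  by_contra hcon
  push Not at hcon
  refine ha (hω.nd a fun v => ?_)
  by_contra hv
  apply hcon ((ω a v)⁻¹ • v)
  rw [map_smul, smul_eq_mul, inv_mul_cancel₀ hv]

/-- Given independent `w`, `w'` there is `u` with `ω u w = 1`, `ω u w' = 0`. -/
theorem exists_sep {w w' : Fin k → F} (h : ∀ c : F, w ≠ c • w') (_hw' : True) :
    ∃ u, ω u w = 1 ∧ ω u w' = 0 := by
  have h1 : w ∉ Submodule.span F {w'} := by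
    intro hmem
    obtain ⟨c, hc⟩ := Submodule.mem_span_singleton.1 hmem
    exact h c hc.symm
  obtain ⟨φ, hφ, hφ'⟩ := Submodule.exists_dual_map_eq_bot_of_notMem h1 inferInstance
  obtain ⟨u, hu⟩ := hω.exists_repr φ
  have h2 : φ w' = 0 := by
    have : φ w' ∈ (Submodule.span F {w'}).map φ :=
      Submodule.mem_map_of_mem (Submodule.mem_span_singleton_self w')
    rw [hφ'] at this
    exact (Submodule.mem_bot F).1 this
  refine ⟨(φ w)⁻¹ • u, ?_, ?_⟩
  · rw [map_smul, LinearMap.smul_apply, hu, smul_eq_mul, inv_mul_cancel₀ hφ]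
  · rw [map_smul, LinearMap.smul_apply, hu, h2, smul_zero]

theorem pair_indep {a b : Fin k → F} (h : ω a b = 1) (c : F) : a ≠ c • b := by
  intro e
  rw [e, map_smul, LinearMap.smul_apply, hω.alt, smul_zero] at h
  exact zero_ne_one h

/-- Double perpendicular of a vector. -/
theorem eq_smul_of_perp {a u : Fin k → F} (ha : a ≠ 0) (h : ∀ n, ω a n = 0 → ω u n = 0) :
    ∃ c : F, u = c • a := by
  obtain ⟨a', ha'⟩ := hω.exists_pair ha
  refine ⟨ω u a', ?_⟩
  rw [← sub_eq_zero]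
  apply hω.nd
  intro v
  have h1 := h (v - ω a v • a') (by rw [map_sub, map_smul, ha', smul_eq_mul, mul_one, sub_self])
  rw [map_sub, map_smul, smul_eq_mul, sub_eq_zero] at h1
  rw [map_sub, LinearMap.sub_apply, h1, map_smul, LinearMap.smul_apply, smul_eq_mul, mul_comm, sub_self]

end Symp

/-- The data of a decomposition `V = F^k ⊗ B`. -/
structure TD (ω : LinearMap.BilinForm F (Fin k → F)) (B V : Type*) [AddCommGroup B] [Module F B]
    [AddCommGroup V] [Module F V] where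
  ι : (Fin k → F) →ₗ[F] B →ₗ[F] V
  κ : (Fin k → F) →ₗ[F] V →ₗ[F] B
  κι : ∀ u w b, κ u (ι w b) = ω u w • b
  inj : ∀ v, (∀ u, κ u v = 0) → v = 0

namespace TD

variable {ω : LinearMap.BilinForm F (Fin k → F)} {B V : Type*} [AddCommGroup B] [Module F B]
  [AddCommGroup V] [Module F V] (D : TD ω B V)

/-- A dual basis: `ω (D.dualv p) w = w p`. -/
theorem exists_dualv (hω : Symp ω) : ∃ d : Fin k → (Fin k → F), ∀ p w, ω (d p) w = w p := by
  have h : ∀ p : Fin k, ∃ u, ∀ w, ω u w = w p := fun p => hω.exists_repr (LinearMap.proj p)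
  choose d hd using h
  exact ⟨d, hd⟩

/-- The dual basis of `W`. -/
noncomputable def dualv (hω : Symp ω) : Fin k → (Fin k → F) := (exists_dualv hω).choose

theorem ω_dualv (hω : Symp ω) (p : Fin k) (w : Fin k → F) : ω (dualv hω p) w = w p :=
  (exists_dualv hω).choose_spec p w

theorem sum_single (w : Fin k → F) : ∑ p, w p • (Pi.single p (1 : F) : Fin k → F) = w := by
  funext x
  rw [Finset.sum_apply, Finset.sum_eq_single x]
  · simp
  · intro b _ hb
    simp [Pi.single_apply, Ne.symm hb]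
  · intro h
    exact absurd (Finset.mem_univ x) h

theorem expand (hω : Symp ω) (v : V) : v = ∑ p, D.ι (Pi.single p 1) (D.κ (dualv hω p) v) := by
  rw [← sub_eq_zero]
  apply D.inj
  intro u
  rw [map_sub, map_sum]
  simp only [D.κι]
  have h1 : u = ∑ p, ω u (Pi.single p 1) • dualv hω p := by
    rw [← sub_eq_zero]
    apply hω.nd
    intro w
    rw [map_sub, LinearMap.sub_apply, map_sum, LinearMap.sum_apply, sub_eq_zero]
    simp only [map_smul, LinearMap.smul_apply, ω_dualv, smul_eq_mul]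
    conv_lhs => rw [← sum_single w]
    rw [map_sum]
    refine Finset.sum_congr rfl fun p _ => ?_
    rw [map_smul, smul_eq_mul, mul_comm]
  have h2 : D.κ u v = ∑ p, ω u (Pi.single p 1) • D.κ (dualv hω p) v := by
    conv_lhs => rw [h1]
    rw [map_sum, LinearMap.sum_apply]
    refine Finset.sum_congr rfl fun p _ => ?_
    rw [map_smul, LinearMap.smul_apply]
  rw [h2, sub_self]

include D in
/-- Linear maps agreeing on all `w ⊗ b` agree. -/
theorem ext (hω : Symp ω) {V' : Type*} [AddCommGroup V'] [Module F V'] {A A' : V →ₗ[F] V'}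
    (h : ∀ w b, A (D.ι w b) = A' (D.ι w b)) : A = A' := by
  ext v
  rw [D.expand hω v, map_sum, map_sum]
  exact Finset.sum_congr rfl fun p _ => h _ _

theorem ι_inj {w : Fin k → F} (hω : Symp ω) (hw : w ≠ 0) {b : B} (h : D.ι w b = 0) : b = 0 := by
  obtain ⟨u, hu⟩ := hω.exists_pair hw
  have h1 := D.κι (-u) w b
  rw [h, map_zero, map_neg, LinearMap.neg_apply, hω.skew u w, hu, neg_neg, one_smul] at h1
  exact h1.symm

/-- A vector killed by all `κ n`, `n ⊥ a`, is `a ⊗ b`. -/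
theorem exists_of_perp (hω : Symp ω) {a : Fin k → F} (ha : a ≠ 0) {v : V}
    (h : ∀ n, ω a n = 0 → D.κ n v = 0) : ∃ b, v = D.ι a b := by
  obtain ⟨a', ha'⟩ := hω.exists_pair ha
  refine ⟨-D.κ a' v, ?_⟩
  rw [← sub_eq_zero]
  apply D.inj
  intro u
  have h1 := h (u - ω a u • a') (by rw [map_sub, map_smul, ha', smul_eq_mul, mul_one, sub_self])
  rw [map_sub, LinearMap.sub_apply, map_smul, LinearMap.smul_apply, sub_eq_zero] at h1
  rw [map_sub, D.κι, h1, hω.skew u a, smul_neg, neg_smul, neg_neg, sub_self]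

theorem indep (hω : Symp ω) {w w' : Fin k → F} (h : ∀ c : F, w ≠ c • w') {b b' : B}
    (hb : D.ι w b + D.ι w' b' = 0) : b = 0 := by
  obtain ⟨u, h1, h2⟩ := hω.exists_sep h trivial
  have h3 := congrArg (D.κ u) hb
  rw [map_add, D.κι, D.κι, h1, h2, one_smul, zero_smul, add_zero, map_zero] at h3
  exact h3

/-- The operator `α ⊗ β`. -/
noncomputable def map (hω : Symp ω) (α : Module.End F (Fin k → F)) (β : Module.End F B) :
    Module.End F V :=
  ∑ p, (D.ι (α (Pi.single p 1))) ∘ₗ β ∘ₗ (D.κ (dualv hω p))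

theorem map_ι (hω : Symp ω) (α : Module.End F (Fin k → F)) (β : Module.End F B)
    (w : Fin k → F) (b : B) : D.map hω α β (D.ι w b) = D.ι (α w) (β b) := by
  rw [map, LinearMap.sum_apply]
  simp only [LinearMap.comp_apply, D.κι, ω_dualv, map_smul]
  have h : α w = ∑ p, w p • α (Pi.single p 1) := by
    conv_lhs => rw [← sum_single w]
    rw [map_sum]
    exact Finset.sum_congr rfl fun p _ => map_smul _ _ _
  rw [h, map_sum, LinearMap.sum_apply]
  refine Finset.sum_congr rfl fun p _ => ?_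
  rw [map_smul, LinearMap.smul_apply]

theorem map_mul (hω : Symp ω) (α α' : Module.End F (Fin k → F)) (β β' : Module.End F B) :
    D.map hω α β * D.map hω α' β' = D.map hω (α * α') (β * β') := by
  refine D.ext hω fun w b => ?_
  rw [Module.End.mul_apply, map_ι, map_ι, map_ι, Module.End.mul_apply, Module.End.mul_apply]

theorem map_one (hω : Symp ω) : D.map hω 1 1 = 1 := by
  refine D.ext hω fun w b => ?_
  rw [map_ι, Module.End.one_apply, Module.End.one_apply, Module.End.one_apply]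

theorem map_ι_comp (hω : Symp ω) (α : Module.End F (Fin k → F)) (β : Module.End F B)
    (w : Fin k → F) : D.map hω α β ∘ₗ D.ι w = D.ι (α w) ∘ₗ β := by
  ext b
  exact D.map_ι hω α β w b

/-- The operator `c_u ⊗ s`, `c_u w = ω u w • u`. -/
def cs (u : Fin k → F) (s : Module.End F B) : Module.End F V := D.ι u ∘ₗ s ∘ₗ D.κ u

theorem cs_apply (u : Fin k → F) (s : Module.End F B) (v : V) :
    D.cs u s v = D.ι u (s (D.κ u v)) := rfl

end TD

end Cfsg.Agent.H889.C7
end

-- part: H889/C7/Basic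
section
/-!
Units of endomorphism rings, isometries of `ω`, transitivity, forms on a two-factor decomposition.
-/

set_option autoImplicit false
set_option linter.unusedSectionVars false

namespace Cfsg.Agent.H889.C7

open Module

variable {F : Type*} [Field F] {k : ℕ}

/-- The unit `1 + N`, `N ^ 2 = 0`. -/
def oneAdd {R : Type*} [Ring R] (N : R) (h : N * N = 0) : Rˣ where
  val := 1 + N
  inv := 1 - N
  val_inv := by rw [add_mul, mul_sub, mul_sub, h]; simp
  inv_val := by rw [sub_mul, mul_add, mul_add, h]; simp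

theorem oneAdd_val {R : Type*} [Ring R] (N : R) (h : N * N = 0) : (oneAdd N h).1 = 1 + N := rfl

theorem inv_apply {V : Type*} [AddCommGroup V] [Module F V] (g : (Module.End F V)ˣ) (v : V) :
    (g⁻¹).1 (g.1 v) = v := by
  rw [← Module.End.mul_apply, ← Units.val_mul, inv_mul_cancel, Units.val_one, Module.End.one_apply]

theorem apply_inv {V : Type*} [AddCommGroup V] [Module F V] (g : (Module.End F V)ˣ) (v : V) :
    g.1 ((g⁻¹).1 v) = v := by
  rw [← Module.End.mul_apply, ← Units.val_mul, mul_inv_cancel, Units.val_one, Module.End.one_apply]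

theorem mul_app {V : Type*} [AddCommGroup V] [Module F V] (g h : (Module.End F V)ˣ) (v : V) :
    (g * h).1 v = g.1 (h.1 v) := rfl

/-- `α` preserves `ω`. -/
def IsoW (ω : LinearMap.BilinForm F (Fin k → F)) (α : (Module.End F (Fin k → F))ˣ) : Prop :=
  ∀ u v, ω (α.1 u) (α.1 v) = ω u v

theorem IsoW.mul {ω : LinearMap.BilinForm F (Fin k → F)} {α β : (Module.End F (Fin k → F))ˣ}
    (hα : IsoW ω α) (hβ : IsoW ω β) : IsoW ω (α * β) := fun u v => by
  rw [mul_app, mul_app, hα, hβ]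

theorem IsoW.one {ω : LinearMap.BilinForm F (Fin k → F)} : IsoW ω 1 := fun _ _ => rfl

theorem IsoW.inv {ω : LinearMap.BilinForm F (Fin k → F)} {α : (Module.End F (Fin k → F))ˣ}
    (hα : IsoW ω α) : IsoW ω α⁻¹ := fun u v => by
  rw [← hα, apply_inv, apply_inv]

/-- The operator `w ↦ ω x w • y`. -/
def rk (ω : LinearMap.BilinForm F (Fin k → F)) (y x : Fin k → F) : Module.End F (Fin k → F) :=
  (ω x).smulRight y

theorem rk_apply (ω : LinearMap.BilinForm F (Fin k → F)) (y x w : Fin k → F) :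
    rk ω y x w = ω x w • y := rfl

theorem isoW_oneAdd {ω : LinearMap.BilinForm F (Fin k → F)} (N : Module.End F (Fin k → F))
    (h : N * N = 0) (hN : ∀ u v, ω (N u) v + ω u (N v) = 0) : IsoW ω (oneAdd N h) := by
  intro u v
  rw [oneAdd_val, LinearMap.add_apply, LinearMap.add_apply, Module.End.one_apply, Module.End.one_apply]
  simp only [map_add, LinearMap.add_apply]
  have h1 := hN u (N v)
  have h2 : N (N v) = 0 := by rw [← Module.End.mul_apply, h]; rfl
  rw [h2, map_zero, add_zero] at h1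
  have h3 := hN u v
  linear_combination h1 + h3

/-- The transvection `w ↦ w + c ω u w • u`. -/
theorem tv_sq {ω : LinearMap.BilinForm F (Fin k → F)} (hω : Symp ω) (c : F) (u : Fin k → F) :
    (c • rk ω u u) * (c • rk ω u u) = 0 := by
  refine LinearMap.ext fun w => ?_
  simp [rk_apply, hω.alt]

def tv {ω : LinearMap.BilinForm F (Fin k → F)} (hω : Symp ω) (c : F) (u : Fin k → F) :
    (Module.End F (Fin k → F))ˣ := oneAdd (c • rk ω u u) (tv_sq hω c u)

theorem tv_apply {ω : LinearMap.BilinForm F (Fin k → F)} (hω : Symp ω) (c : F) (u w : Fin k → F) :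
    (tv hω c u).1 w = w + (c * ω u w) • u := by
  rw [tv, oneAdd_val, LinearMap.add_apply, Module.End.one_apply, LinearMap.smul_apply, rk_apply, smul_smul]

theorem isoW_tv {ω : LinearMap.BilinForm F (Fin k → F)} (hω : Symp ω) (c : F) (u : Fin k → F) :
    IsoW ω (tv hω c u) := by
  apply isoW_oneAdd
  intro x y
  simp only [LinearMap.smul_apply, rk_apply, map_smul, smul_eq_mul]
  rw [hω.skew x u]
  ring

/-- The element `w ↦ w + ω a w • n + ω n w • a` for `a ⊥ n`. -/
theorem sg_sq {ω : LinearMap.BilinForm F (Fin k → F)} (hω : Symp ω) {a n : Fin k → F} (h : ω a n = 0) :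
    (rk ω n a + rk ω a n) * (rk ω n a + rk ω a n) = 0 := by
  have h' : ω n a = 0 := by rw [hω.skew, h, neg_zero]
  refine LinearMap.ext fun w => ?_
  simp [rk_apply, hω.alt, h, h']

def sg {ω : LinearMap.BilinForm F (Fin k → F)} (hω : Symp ω) {a n : Fin k → F} (h : ω a n = 0) :
    (Module.End F (Fin k → F))ˣ := oneAdd (rk ω n a + rk ω a n) (sg_sq hω h)

theorem sg_apply {ω : LinearMap.BilinForm F (Fin k → F)} (hω : Symp ω) {a n : Fin k → F}
    (h : ω a n = 0) (w : Fin k → F) : (sg hω h).1 w = w + (ω a w • n + ω n w • a) := rfl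

theorem isoW_sg {ω : LinearMap.BilinForm F (Fin k → F)} (hω : Symp ω) {a n : Fin k → F}
    (h : ω a n = 0) : IsoW ω (sg hω h) := by
  apply isoW_oneAdd
  intro x y
  simp only [LinearMap.add_apply, rk_apply, map_add, map_smul, LinearMap.smul_apply, smul_eq_mul]
  rw [hω.skew x n, hω.skew x a]
  ring

section Trans

variable {ω : LinearMap.BilinForm F (Fin k → F)} (hω : Symp ω)
include hω

/-- If `ω x y ≠ 0` some isometry maps `x` to `y` and fixes `(y - x)^⊥`. -/
theorem exists_tv {x y : Fin k → F} (h : ω x y ≠ 0) :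
    ∃ α, IsoW ω α ∧ α.1 x = y ∧ ∀ s, ω s x = ω s y → α.1 s = s := by
  refine ⟨tv hω (ω y x)⁻¹ (y - x), isoW_tv _ _ _, ?_, ?_⟩
  · have h' : ω y x ≠ 0 := by rw [hω.skew]; exact neg_ne_zero.2 h
    rw [tv_apply, map_sub, LinearMap.sub_apply, hω.alt, sub_zero, inv_mul_cancel₀ h', one_smul]
    abel
  · intro s hs
    rw [tv_apply, map_sub, LinearMap.sub_apply, hω.skew y s, hω.skew x s, hs, sub_self, mul_zero,
      zero_smul, add_zero]

/-- Transitivity of the stabiliser of `a` on `a^⊥ \ ⟨a⟩`; `a = 0` is allowed. -/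
theorem exists_iso {a x y : Fin k → F} (hx : ω a x = 0) (hy : ω a y = 0) (hx' : ∀ c : F, x ≠ c • a)
    (hy' : ∀ c : F, y ≠ c • a) : ∃ α, IsoW ω α ∧ α.1 a = a ∧ α.1 x = y := by
  have key : ∀ z, (∀ c : F, z ≠ c • a) → ∃ n, ω a n = 0 ∧ ω z n ≠ 0 := by
    intro z hz
    by_cases ha : a = 0
    · have hz0 : z ≠ 0 := by simpa using hz 0
      obtain ⟨n, hn⟩ := hω.exists_pair hz0
      exact ⟨n, by rw [ha]; simp, by rw [hn]; exact one_ne_zero⟩
    · by_contra hcon
      push Not at hcon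
      obtain ⟨c, hc⟩ := hω.eq_smul_of_perp ha hcon
      exact hz c hc
  have step : ∀ x y : Fin k → F, ω a x = 0 → ω a y = 0 → ω x y ≠ 0 →
      ∃ α, IsoW ω α ∧ α.1 a = a ∧ α.1 x = y := by
    intro x y hx hy hxy
    obtain ⟨α, h1, h2, h3⟩ := exists_tv hω hxy
    exact ⟨α, h1, h3 a (by rw [hx, hy]), h2⟩
  by_cases hxy : ω x y = 0
  · obtain ⟨z, hz, hxz, hzy⟩ : ∃ z, ω a z = 0 ∧ ω x z ≠ 0 ∧ ω z y ≠ 0 := by
      obtain ⟨z1, h1, h1'⟩ := key x hx'
      obtain ⟨z2, h2, h2'⟩ := key y hy'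
      by_cases c1 : ω y z1 = 0
      · by_cases c2 : ω x z2 = 0
        · refine ⟨z1 + z2, by rw [map_add, h1, h2, add_zero], by rw [map_add, c2, add_zero]; exact h1', ?_⟩
          rw [hω.skew, map_add, c1, zero_add]
          exact neg_ne_zero.2 h2'
        · exact ⟨z2, h2, c2, by rw [hω.skew]; exact neg_ne_zero.2 h2'⟩
      · exact ⟨z1, h1, h1', by rw [hω.skew]; exact neg_ne_zero.2 c1⟩
    obtain ⟨α, a1, a2, a3⟩ := step x z hx hz hxz
    obtain ⟨β, b1, b2, b3⟩ := step z y hz hy hzy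
    exact ⟨β * α, b1.mul a1, by rw [mul_app, a2, b2], by rw [mul_app, a3, b3]⟩
  · exact step x y hx hy hxy

/-- Transitivity on non-zero vectors. -/
theorem exists_iso_of_ne {x y : Fin k → F} (hx : x ≠ 0) (hy : y ≠ 0) :
    ∃ α, IsoW ω α ∧ α.1 x = y := by
  obtain ⟨α, h1, _, h3⟩ := exists_iso hω (a := 0) (x := x) (y := y) (by simp) (by simp)
    (fun c => by simpa using hx) (fun c => by simpa using hy)
  exact ⟨α, h1, h3⟩

end Trans

namespace TD

variable {ω : LinearMap.BilinForm F (Fin k → F)} {B V : Type*} [AddCommGroup B] [Module F B]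
  [AddCommGroup V] [Module F V] (D : TD ω B V)

/-- `α ⊗ β` as a unit. -/
noncomputable def mapU (hω : Symp ω) (α : (Module.End F (Fin k → F))ˣ) (β : (Module.End F B)ˣ) :
    (Module.End F V)ˣ where
  val := D.map hω α.1 β.1
  inv := D.map hω (α⁻¹).1 (β⁻¹).1
  val_inv := by
    rw [map_mul, ← Units.val_mul, ← Units.val_mul, mul_inv_cancel, mul_inv_cancel, Units.val_one,
      Units.val_one, map_one]
  inv_val := by
    rw [map_mul, ← Units.val_mul, ← Units.val_mul, inv_mul_cancel, inv_mul_cancel, Units.val_one,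
      Units.val_one, map_one]

theorem mapU_val (hω : Symp ω) (α : (Module.End F (Fin k → F))ˣ) (β : (Module.End F B)ˣ) :
    (D.mapU hω α β).1 = D.map hω α.1 β.1 := rfl

theorem mapU_ι (hω : Symp ω) (α : (Module.End F (Fin k → F))ˣ) (β : (Module.End F B)ˣ)
    (w : Fin k → F) (b : B) : (D.mapU hω α β).1 (D.ι w b) = D.ι (α.1 w) (β.1 b) :=
  D.map_ι hω _ _ w b

theorem mapU_mul (hω : Symp ω) (α α' : (Module.End F (Fin k → F))ˣ) (β β' : (Module.End F B)ˣ) :
    D.mapU hω α β * D.mapU hω α' β' = D.mapU hω (α * α') (β * β') :=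
  Units.ext (D.map_mul hω _ _ _ _)

theorem mapU_one (hω : Symp ω) : D.mapU hω 1 1 = 1 := Units.ext (D.map_one hω)

theorem mapU_inv (hω : Symp ω) (α : (Module.End F (Fin k → F))ˣ) (β : (Module.End F B)ˣ) :
    (D.mapU hω α β)⁻¹ = D.mapU hω α⁻¹ β⁻¹ := by
  rw [inv_eq_iff_mul_eq_one, mapU_mul, mul_inv_cancel, mul_inv_cancel, mapU_one]

/-- Forms on `B` and `V` with `fV = ω ⊗ fB`. -/
structure Forms (fB : LinearMap.BilinForm F B) (fV : LinearMap.BilinForm F V) : Prop where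
  adj : ∀ w b v, fV (D.ι w b) v = fB b (D.κ w v)
  adj' : ∀ w b v, fV v (D.ι w b) = -fB (D.κ w v) b
  ndl : ∀ b, (∀ b', fB b b' = 0) → b = 0
  ndr : ∀ b', (∀ b, fB b b' = 0) → b' = 0

namespace Forms

variable {D} {fB : LinearMap.BilinForm F B} {fV : LinearMap.BilinForm F V} (hf : D.Forms fB fV)
include hf

theorem ιι (w w' : Fin k → F) (b b' : B) :
    fV (D.ι w b) (D.ι w' b') = ω w w' * fB b b' := by
  rw [hf.adj, D.κι, map_smul, smul_eq_mul]

theorem vndr (v' : V) (h : ∀ v, fV v v' = 0) : v' = 0 := by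
  apply D.inj
  intro u
  apply hf.ndr
  intro b
  rw [← hf.adj, h]

theorem vndl (v : V) (h : ∀ v', fV v v' = 0) : v = 0 := by
  apply D.inj
  intro u
  apply hf.ndl
  intro b
  have := hf.adj' u b v
  rw [h] at this
  rw [← neg_eq_zero, ← this]

/-- `κ_α` for a similitude. -/
theorem κ_mapU (hω : Symp ω) {α : (Module.End F (Fin k → F))ˣ} (hα : IsoW ω α) (β : (Module.End F B)ˣ)
    (u : Fin k → F) (v : V) :
    D.κ (α.1 u) ((D.mapU hω α β).1 v) = β.1 (D.κ u v) := by
  have h : D.κ (α.1 u) ∘ₗ (D.mapU hω α β).1 = β.1 ∘ₗ D.κ u := by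
    refine D.ext hω fun w b => ?_
    rw [LinearMap.comp_apply, LinearMap.comp_apply, mapU_ι, D.κι, D.κι, hα, map_smul]
  exact LinearMap.congr_fun h v

end Forms

end TD

end Cfsg.Agent.H889.C7
end

-- part: H889/C7/Layer
section
/-!
The layer theorem: an element of `M` which is trivial on `a ⊗ B`, `(a⊥ ⊗ B) / (a ⊗ B)`, `V / (a⊥ ⊗ B)` lies in
`Sp(W) ⊗ 1`, if all `1 + c_a ⊗ s` in `M` have `s` scalar.
-/

set_option autoImplicit false
set_option linter.unusedSectionVars false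
set_option linter.unusedVariables false

namespace Cfsg.Agent.H889.C7

open Module

variable {F : Type*} [Field F] {k : ℕ} {ω : LinearMap.BilinForm F (Fin k → F)} {B V : Type*}
  [AddCommGroup B] [Module F B] [AddCommGroup V] [Module F V]

/-- The standing hypotheses on `M`. -/
structure GoodM (hω : Symp ω) (D : TD ω B V) (fB : LinearMap.BilinForm F B)
    (fV : LinearMap.BilinForm F V) (M : Subgroup (Module.End F V)ˣ) : Prop where
  isom : ∀ g ∈ M, ∀ v w, fV (g.1 v) (g.1 w) = fV v w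
  sp : ∀ α, IsoW ω α → D.mapU hω α 1 ∈ M
  caseI : ∀ a, a ≠ 0 → ∀ s : Module.End F B, ∀ g ∈ M, g.1 = 1 + D.cs a s → ∃ τ : F, s = τ • 1

/-- Triviality of the layer. -/
def TrivT (hω : Symp ω) (D : TD ω B V) (fB : LinearMap.BilinForm F B)
    (M : Subgroup (Module.End F V)ˣ) : Prop :=
  ∀ T : Submodule F (Module.End F B), (1 : Module.End F B) ∈ T →
    (∀ β : (Module.End F B)ˣ, D.mapU hω 1 β ∈ M → ∀ s ∈ T, β.1 * s * (β⁻¹).1 ∈ T) →
    (∀ s ∈ T, ∀ s' ∈ T, ∃ τ : F, ∀ b b', fB (s b) (s' b') + fB (s' b) (s b') = τ * fB b b') →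
    ∀ s ∈ T, ∃ τ : F, s = τ • 1

/-- `g` is trivial on the three sections of `0 ≤ a ⊗ B ≤ a⊥ ⊗ B ≤ V`. -/
structure InU (D : TD ω B V) (a : Fin k → F) (g : (Module.End F V)ˣ) : Prop where
  fix : ∀ b, g.1 (D.ι a b) = D.ι a b
  kap : ∀ v, D.κ a (g.1 v) = D.κ a v
  mid : ∀ v, D.κ a v = 0 → ∃ b, g.1 v = v + D.ι a b

namespace InU

variable {D : TD ω B V} {a : Fin k → F} {g h : (Module.End F V)ˣ}

theorem one : InU D a 1 := ⟨fun _ => rfl, fun _ => rfl, fun v _ => ⟨0, by simp⟩⟩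

theorem mul (hg : InU D a g) (hh : InU D a h) : InU D a (g * h) := by
  refine ⟨fun b => ?_, fun v => ?_, fun v hv => ?_⟩
  · rw [mul_app, hh.fix, hg.fix]
  · rw [mul_app, hg.kap, hh.kap]
  · obtain ⟨b, hb⟩ := hh.mid v hv
    obtain ⟨b', hb'⟩ := hg.mid v hv
    exact ⟨b' + b, by rw [mul_app, hb, map_add, hb', hg.fix, map_add, add_assoc]⟩

theorem inv (hg : InU D a g) : InU D a g⁻¹ := by
  refine ⟨fun b => ?_, fun v => ?_, fun v hv => ?_⟩
  · conv_lhs => rw [← hg.fix b]
    rw [inv_apply]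
  · conv_rhs => rw [← apply_inv g v]
    rw [hg.kap]
  · have h1 : D.κ a ((g⁻¹).1 v) = 0 := by
      have := hg.kap ((g⁻¹).1 v)
      rw [apply_inv] at this
      rw [← this, hv]
    obtain ⟨b, hb⟩ := hg.mid _ h1
    rw [apply_inv] at hb
    exact ⟨-b, by rw [map_neg]; rw [eq_add_neg_iff_add_eq, ← hb]⟩

end InU

namespace TD

variable (D : TD ω B V)

/-- The symbol `κ m (g - 1) ι a'`. -/
def sig (a' : Fin k → F) (g : (Module.End F V)ˣ) (m : Fin k → F) : Module.End F B :=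
  (D.κ m) ∘ₗ (g.1 - 1) ∘ₗ (D.ι a')

theorem sig_apply (a' : Fin k → F) (g : (Module.End F V)ˣ) (m : Fin k → F) (b : B) :
    D.sig a' g m b = D.κ m (g.1 (D.ι a' b)) - D.κ m (D.ι a' b) := by
  rw [sig, LinearMap.comp_apply, LinearMap.comp_apply, LinearMap.sub_apply, Module.End.one_apply, map_sub]

theorem sig_add (a' : Fin k → F) (g : (Module.End F V)ˣ) (m m' : Fin k → F) :
    D.sig a' g (m + m') = D.sig a' g m + D.sig a' g m' := by
  rw [sig, sig, sig, map_add, LinearMap.add_comp]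

theorem sig_smul (a' : Fin k → F) (g : (Module.End F V)ˣ) (c : F) (m : Fin k → F) :
    D.sig a' g (c • m) = c • D.sig a' g m := by
  rw [sig, sig, map_smul, LinearMap.smul_comp]

variable {D} {a a' : Fin k → F}

theorem sig_self {g : (Module.End F V)ˣ} (hg : InU D a g) : D.sig a' g a = 0 := by
  refine LinearMap.ext fun b => ?_
  rw [sig_apply, hg.kap, sub_self, LinearMap.zero_apply]

theorem sig_mul (hω : Symp ω) {g h : (Module.End F V)ˣ} (hg : InU D a g) (hh : InU D a h)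
    {m : Fin k → F} (hm : ω a m = 0) : D.sig a' (g * h) m = D.sig a' g m + D.sig a' h m := by
  have hm' : ω m a = 0 := by rw [hω.skew, hm, neg_zero]
  refine LinearMap.ext fun b => ?_
  rw [LinearMap.add_apply, sig_apply, sig_apply, sig_apply, mul_app]
  obtain ⟨b', hb'⟩ := hg.mid (h.1 (D.ι a' b) - D.ι a' b) (by rw [map_sub, hh.kap, sub_self])
  have h1 : g.1 (h.1 (D.ι a' b)) = g.1 (D.ι a' b) + (h.1 (D.ι a' b) - D.ι a' b + D.ι a b') := by
    rw [← hb', ← map_add]
    congr 1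
    abel
  rw [h1, map_add, map_add, map_sub, D.κι m a, hm', zero_smul]
  abel

theorem sig_one : D.sig a' 1 = 0 := by
  funext m
  rw [sig, Units.val_one, sub_self, LinearMap.zero_comp, LinearMap.comp_zero]
  rfl

theorem sig_inv (hω : Symp ω) {g : (Module.End F V)ˣ} (hg : InU D a g)
    {m : Fin k → F} (hm : ω a m = 0) : D.sig a' g⁻¹ m = -D.sig a' g m := by
  have h := sig_mul (a' := a') hω hg hg.inv hm
  rw [mul_inv_cancel, sig_one, Pi.zero_apply] at h
  exact eq_neg_of_add_eq_zero_right h.symm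

end TD

section Conj

variable {D : TD ω B V} {a a' : Fin k → F} {fB : LinearMap.BilinForm F B}
  {fV : LinearMap.BilinForm F V}

theorem κ_mapU (hω : Symp ω) (D : TD ω B V) {α : (Module.End F (Fin k → F))ˣ} (hα : IsoW ω α)
    (β : (Module.End F B)ˣ) (u : Fin k → F) (v : V) :
    D.κ (α.1 u) ((D.mapU hω α β).1 v) = β.1 (D.κ u v) := by
  have h : D.κ (α.1 u) ∘ₗ (D.mapU hω α β).1 = β.1 ∘ₗ D.κ u := by
    refine D.ext hω fun w b => ?_
    rw [LinearMap.comp_apply, LinearMap.comp_apply, TD.mapU_ι, D.κι, D.κι, hα, map_smul]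
  exact LinearMap.congr_fun h v

theorem κ_mapU' (hω : Symp ω) (D : TD ω B V) {α : (Module.End F (Fin k → F))ˣ} (hα : IsoW ω α)
    (β : (Module.End F B)ˣ) (u : Fin k → F) (v : V) :
    D.κ u ((D.mapU hω α β).1 v) = β.1 (D.κ ((α⁻¹).1 u) v) := by
  rw [← κ_mapU hω D hα, apply_inv]

theorem InU.conj (hω : Symp ω) {g : (Module.End F V)ˣ} (hg : InU D a g)
    {α : (Module.End F (Fin k → F))ˣ} (hα : IsoW ω α) (hαa : α.1 a = a) (β : (Module.End F B)ˣ) :
    InU D a (D.mapU hω α β * g * (D.mapU hω α β)⁻¹) := by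
  have hαa' : (α⁻¹).1 a = a := by
    conv_lhs => rw [← hαa]
    rw [inv_apply]
  have hk : ∀ v, D.κ a ((D.mapU hω α β).1 v) = β.1 (D.κ a v) := fun v => by
    rw [κ_mapU' hω D hα, hαa']
  have hk' : ∀ v, D.κ a ((D.mapU hω α⁻¹ β⁻¹).1 v) = (β⁻¹).1 (D.κ a v) := fun v => by
    rw [κ_mapU' hω D hα.inv, inv_inv, hαa]
  rw [D.mapU_inv hω]
  refine ⟨fun b => ?_, fun v => ?_, fun v hv => ?_⟩
  · rw [mul_app, mul_app, TD.mapU_ι, hαa', hg.fix, TD.mapU_ι, hαa, apply_inv]
  · rw [mul_app, mul_app, hk, hg.kap, hk', apply_inv]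
  · rw [mul_app, mul_app]
    obtain ⟨b, hb⟩ := hg.mid ((D.mapU hω α⁻¹ β⁻¹).1 v) (by rw [hk', hv, map_zero])
    refine ⟨β.1 b, ?_⟩
    rw [hb, map_add, TD.mapU_ι, hαa, ← D.mapU_inv hω, apply_inv]

/-- Conjugation by `α ⊗ β`, `α a = a`. -/
theorem sig_conj (hω : Symp ω) {g : (Module.End F V)ˣ} (hg : InU D a g) (haa' : ω a a' = 1)
    {α : (Module.End F (Fin k → F))ˣ} (hα : IsoW ω α) (hαa : α.1 a = a) (β : (Module.End F B)ˣ)
    {m : Fin k → F} (hm : ω a m = 0) :
    D.sig a' (D.mapU hω α β * g * (D.mapU hω α β)⁻¹) (α.1 m) = β.1 * D.sig a' g m * (β⁻¹).1 := by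
  have hm' : ω m a = 0 := by rw [hω.skew, hm, neg_zero]
  refine LinearMap.ext fun b => ?_
  rw [Module.End.mul_apply, Module.End.mul_apply, TD.sig_apply, TD.sig_apply, D.mapU_inv hω, mul_app, mul_app,
    κ_mapU hω D hα, TD.mapU_ι, D.κι (α.1 m) a' b, map_sub, D.κι m a']
  set n := (α⁻¹).1 a' - a' with hn
  have hn0 : ω a n = 0 := by
    rw [hn, map_sub, ← hα, hαa, apply_inv, sub_self]
  have e : (α⁻¹).1 a' = a' + n := by rw [hn]; abel
  obtain ⟨b', hb'⟩ := hg.mid (D.ι n ((β⁻¹).1 b)) (by rw [D.κι, hn0, zero_smul])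
  have e2 : ω (α.1 m) a' = ω m a' + ω m n := by
    rw [← map_add, ← e]
    rw [← hα m, apply_inv]
  have e3 : D.κ m (D.ι n ((β⁻¹).1 b) + D.ι a b') = ω m n • (β⁻¹).1 b := by
    rw [map_add, D.κι, D.κι, hm', zero_smul, add_zero]
  rw [e, map_add, LinearMap.add_apply, map_add, hb', map_add, map_add, e3, map_smul, map_smul, apply_inv,
    e2, add_smul]
  abel

end Conj

section Elements

variable {D : TD ω B V} {a a' : Fin k → F}

theorem mapU_sg_val (hω : Symp ω) (D : TD ω B V) {n : Fin k → F} (hn : ω a n = 0) :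
    (D.mapU hω (sg hω hn) 1).1 = 1 + (D.ι n ∘ₗ D.κ a + D.ι a ∘ₗ D.κ n) := by
  refine D.ext hω fun w b => ?_
  rw [TD.mapU_ι, sg_apply, Units.val_one]
  simp only [Module.End.one_apply, LinearMap.add_apply, LinearMap.comp_apply, D.κι, map_add, map_smul,
    LinearMap.smul_apply]

theorem mapU_tv_val (hω : Symp ω) (D : TD ω B V) (c : F) (u : Fin k → F) :
    (D.mapU hω (tv hω c u) 1).1 = 1 + D.cs u (c • 1) := by
  refine D.ext hω fun w b => ?_
  rw [TD.mapU_ι, tv_apply, Units.val_one]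
  simp only [Module.End.one_apply, LinearMap.add_apply, TD.cs_apply, D.κι, map_add, map_smul,
    LinearMap.smul_apply, smul_smul]
  rw [mul_comm]

theorem sg_fix (hω : Symp ω) {n : Fin k → F} (hn : ω a n = 0) : (sg hω hn).1 a = a := by
  rw [sg_apply, hω.alt, hω.skew n, hn, neg_zero]; simp

theorem inU_sg (hω : Symp ω) (D : TD ω B V) {n : Fin k → F} (hn : ω a n = 0) :
    InU D a (D.mapU hω (sg hω hn) 1) := by
  refine ⟨fun b => ?_, fun v => ?_, fun v hv => ?_⟩
  · rw [TD.mapU_ι, sg_fix, Units.val_one, Module.End.one_apply]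
  · rw [κ_mapU' hω D (isoW_sg hω hn)]
    have : ((sg hω hn)⁻¹).1 a = a := by
      have h1 := inv_apply (sg hω hn) a
      rwa [sg_fix] at h1
    rw [this]; rfl
  · refine ⟨D.κ n v, ?_⟩
    rw [mapU_sg_val]
    simp only [Module.End.one_apply, LinearMap.add_apply, LinearMap.comp_apply, hv, map_zero, zero_add]

theorem sig_sg (hω : Symp ω) (D : TD ω B V) {n : Fin k → F} (hn : ω a n = 0) (haa' : ω a a' = 1)
    {m : Fin k → F} (hm : ω a m = 0) :
    D.sig a' (D.mapU hω (sg hω hn) 1) m = -(ω n m • 1) := by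
  have hm' : ω m a = 0 := by rw [hω.skew, hm, neg_zero]
  refine LinearMap.ext fun b => ?_
  rw [TD.sig_apply, TD.mapU_ι, sg_apply, Units.val_one, Module.End.one_apply, haa', map_add,
    LinearMap.add_apply, map_add, add_sub_cancel_left, D.κι, map_add, map_smul, map_smul, hm', smul_zero,
    add_zero, one_smul, LinearMap.neg_apply, LinearMap.smul_apply, Module.End.one_apply, hω.skew m n,
    neg_smul]

end Elements

section Main

variable {D : TD ω B V} {a a' : Fin k → F} {fB : LinearMap.BilinForm F B}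
  {fV : LinearMap.BilinForm F V} {M : Subgroup (Module.End F V)ˣ}

/-- In the notation of an element of the unipotent radical with trivial symbol. -/
theorem eq_cs_of_sig_zero (hω : Symp ω) (hf : D.Forms fB fV) (haa' : ω a a' = 1)
    {g : (Module.End F V)ˣ} (hg : InU D a g) (hiso : ∀ v w, fV (g.1 v) (g.1 w) = fV v w)
    (hs : ∀ m, ω a m = 0 → D.sig a' g m = 0) : ∃ r, g.1 = 1 + D.cs a r := by
  have ha : a ≠ 0 := by
    rintro rfl
    simp at haa'
  -- `(g - 1) ι a' = ι a r`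
  have h1 : ∀ b, ∃ b', g.1 (D.ι a' b) - D.ι a' b = D.ι a b' := fun b => by
    apply D.exists_of_perp hω ha
    intro m hm
    have := LinearMap.congr_fun (hs m hm) b
    rwa [TD.sig_apply, LinearMap.zero_apply, ← map_sub] at this
  have ha'a : ω a' a = -1 := by rw [hω.skew, haa']
  set r : Module.End F B := -(D.κ a' ∘ₗ (g.1 - 1) ∘ₗ D.ι a') with hr
  have hr1 : ∀ b, g.1 (D.ι a' b) = D.ι a' b + D.ι a (r b) := fun b => by
    obtain ⟨b', hb'⟩ := h1 b
    have e : r b = b' := by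
      rw [hr, LinearMap.neg_apply, LinearMap.comp_apply, LinearMap.comp_apply, LinearMap.sub_apply,
        Module.End.one_apply, hb', D.κι, ha'a, neg_smul, one_smul, neg_neg]
    rw [e, ← hb']
    abel
  have hker : ∀ v, D.κ a v = 0 → g.1 v = v := by
    intro v hv
    obtain ⟨b, hb⟩ := hg.mid v hv
    have hb0 : b = 0 := by
      apply hf.ndl
      intro b'
      have h2 := hiso v (D.ι a' b')
      rw [hb, hr1, map_add, map_add, LinearMap.add_apply, LinearMap.add_apply, hf.ιι, hf.ιι, haa', hω.alt,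
        zero_mul, add_zero, hf.adj' a, hv, map_zero, LinearMap.zero_apply, neg_zero, add_zero, one_mul] at h2
      linear_combination h2
    rw [hb, hb0, map_zero, add_zero]
  refine ⟨r, D.ext hω fun w b => ?_⟩
  rw [LinearMap.add_apply, Module.End.one_apply, TD.cs_apply, D.κι, map_smul, map_smul]
  have e : w = (w - ω a w • a') + ω a w • a' := by abel
  have hk : D.κ a (D.ι (w - ω a w • a') b) = 0 := by
    rw [D.κι, map_sub, map_smul, haa', smul_eq_mul, mul_one, sub_self, zero_smul]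
  have h3 : D.ι w b = D.ι (w - ω a w • a') b + ω a w • D.ι a' b := by
    conv_lhs => rw [e]
    rw [map_add, LinearMap.add_apply, map_smul, LinearMap.smul_apply]
  rw [h3, map_add, hker _ hk, map_smul, hr1, smul_add]
  abel

/-- The commutator constraint. -/
theorem constraint (hω : Symp ω) (hf : D.Forms fB fV) (hM : GoodM hω D fB fV M) (haa' : ω a a' = 1)
    {g h : (Module.End F V)ˣ} (hgM : g ∈ M) (hhM : h ∈ M) (hg : InU D a g) (hh : InU D a h) :
    ∃ τ : F, ∀ b b', fV (g.1 (D.ι a' b) - D.ι a' b) (h.1 (D.ι a' b') - D.ι a' b') -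
      fV (h.1 (D.ι a' b) - D.ι a' b) (g.1 (D.ι a' b') - D.ι a' b') = τ * fB b b' := by
  have ha : a ≠ 0 := by
    rintro rfl
    simp at haa'
  set c := g * h * g⁻¹ * h⁻¹ with hc
  have hcM : c ∈ M := M.mul_mem (M.mul_mem (M.mul_mem hgM hhM) (M.inv_mem hgM)) (M.inv_mem hhM)
  have hcU : InU D a c := ((hg.mul hh).mul hg.inv).mul hh.inv
  obtain ⟨r, hr⟩ := eq_cs_of_sig_zero hω hf haa' hcU (hM.isom c hcM) (by
    intro m hm
    rw [hc, TD.sig_mul hω ((hg.mul hh).mul hg.inv) hh.inv hm, TD.sig_mul hω (hg.mul hh) hg.inv hm,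
      TD.sig_mul hω hg hh hm, TD.sig_inv hω hg hm, TD.sig_inv hω hh hm]
    abel)
  obtain ⟨τ, hτ⟩ := hM.caseI a ha r c hcM hr
  refine ⟨τ, fun b b' => ?_⟩
  have hcomm : g * h = c * (h * g) := by rw [hc]; group
  have e1 : g.1 (h.1 (D.ι a' b)) = h.1 (g.1 (D.ι a' b)) + D.ι a (τ • b) := by
    have := congrArg (fun x : (Module.End F V)ˣ => x.1 (D.ι a' b)) hcomm
    simp only [mul_app] at this
    rw [this, hr, LinearMap.add_apply, Module.End.one_apply, TD.cs_apply, hh.kap, hg.kap, D.κι, haa', one_smul,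
      hτ, LinearMap.smul_apply, Module.End.one_apply]
  -- the inner products
  have hgen : ∀ x y : (Module.End F V)ˣ, x ∈ M → InU D a x → InU D a y →
      fV (x.1 (y.1 (D.ι a' b))) (D.ι a' b') =
        fV (D.ι a' b) (D.ι a' b') + fV (x.1 (D.ι a' b) - D.ι a' b) (D.ι a' b') +
          fV (y.1 (D.ι a' b) - D.ι a' b) (D.ι a' b') -
          fV (y.1 (D.ι a' b) - D.ι a' b) (x.1 (D.ι a' b') - D.ι a' b') := by
    intro x y hx hxU hyU
    -- write `x⁻¹ ι a' b' = ι a' b' - p b' + ι a z`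
    obtain ⟨z, hz⟩ := hxU.mid (x.1 (D.ι a' b') - D.ι a' b') (by rw [map_sub, hxU.kap, sub_self])
    have h2 := hM.isom x hx (y.1 (D.ι a' b)) (D.ι a' b' - (x.1 (D.ι a' b') - D.ι a' b') + D.ι a z)
    have h3 : x.1 (D.ι a' b' - (x.1 (D.ι a' b') - D.ι a' b') + D.ι a z) = D.ι a' b' := by
      rw [map_add, map_sub, hz, hxU.fix]
      abel
    have h4 := hM.isom x hx (D.ι a' b) (D.ι a' b' - (x.1 (D.ι a' b') - D.ι a' b') + D.ι a z)
    rw [h3] at h2 h4
    have h5 : fV (y.1 (D.ι a' b) - D.ι a' b) (D.ι a z) = 0 := by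
      rw [hf.adj', map_sub, hyU.kap, sub_self, map_zero, LinearMap.zero_apply, neg_zero]
    simp only [map_add, map_sub, LinearMap.sub_apply] at h2 h4 h5 ⊢
    linear_combination h2 - h4 + h5
  have e2 := hgen g h hgM hg hh
  have e3 := hgen h g hhM hh hg
  have e4 : fV (D.ι a (τ • b)) (D.ι a' b') = τ * fB b b' := by
    rw [hf.ιι, haa', one_mul, map_smul, LinearMap.smul_apply, smul_eq_mul]
  rw [e1, map_add, LinearMap.add_apply, e4] at e2
  linear_combination e3 - e2

/-- **Layer theorem.** -/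
theorem layer [Nontrivial B] (hω : Symp ω) (hf : D.Forms fB fV) (hM : GoodM hω D fB fV M)
    (hT : TrivT hω D fB M) (haa' : ω a a' = 1)
    {g : (Module.End F V)ˣ} (hgM : g ∈ M) (hg : InU D a g) :
    ∃ α, IsoW ω α ∧ α.1 a = a ∧ g = D.mapU hω α 1 := by
  have ha : a ≠ 0 := by
    rintro rfl
    simp at haa'
  -- the submodule
  let T : Submodule F (Module.End F B) :=
    { carrier := {s | ∀ n, ω a n = 0 → ∃ h ∈ M, InU D a h ∧ ∀ m, ω a m = 0 →
        D.sig a' h m = ω n m • s}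
      zero_mem' := fun n hn => ⟨1, M.one_mem, InU.one, fun m _ => by
        rw [TD.sig_one, smul_zero]; rfl⟩
      add_mem' := by
        rintro s s' hs hs' n hn
        obtain ⟨h, h1, h2, h3⟩ := hs n hn
        obtain ⟨h', h1', h2', h3'⟩ := hs' n hn
        exact ⟨h * h', M.mul_mem h1 h1', h2.mul h2', fun m hm => by
          rw [TD.sig_mul hω h2 h2' hm, h3 m hm, h3' m hm, smul_add]⟩
      smul_mem' := by
        rintro c s hs n hn
        obtain ⟨h, h1, h2, h3⟩ := hs (c • n) (by rw [map_smul, hn, smul_zero])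
        exact ⟨h, h1, h2, fun m hm => by
          rw [h3 m hm, map_smul, LinearMap.smul_apply, smul_assoc, smul_comm]⟩ }
  have hT1 : (1 : Module.End F B) ∈ T := by
    intro n hn
    have hn' : ω a (-n) = 0 := by rw [map_neg, hn, neg_zero]
    refine ⟨D.mapU hω (sg hω hn') 1, hM.sp _ (isoW_sg hω hn'), inU_sg hω D hn', fun m hm => ?_⟩
    rw [sig_sg hω D hn' haa' hm, map_neg, LinearMap.neg_apply, neg_smul, neg_neg]
  -- pure elements
  have hpure : ∀ h : (Module.End F V)ˣ, h ∈ M → InU D a h → ∀ m₀, ω a m₀ = 0 → (∀ c : F, m₀ ≠ c • a) →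
      D.sig a' h m₀ ∈ T := by
    intro h hhM hh m₀ hm₀ hm₀' n hn
    have hm₀a : ω m₀ a = 0 := by rw [hω.skew, hm₀, neg_zero]
    by_cases hna : ∃ c : F, n = c • a
    · obtain ⟨c, rfl⟩ := hna
      refine ⟨1, M.one_mem, InU.one, fun m hm => ?_⟩
      rw [TD.sig_one, map_smul, LinearMap.smul_apply, hm, smul_zero, zero_smul]; rfl
    push Not at hna
    set α := tv hω 1 m₀ with hα
    have hαa : α.1 a = a := by rw [hα, tv_apply, hm₀a, mul_zero, zero_smul, add_zero]
    have hα1 : IsoW ω α := isoW_tv hω _ _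
    set h₀ := D.mapU hω α 1 * h * (D.mapU hω α 1)⁻¹ * h⁻¹ with hh₀
    have hUc : InU D a (D.mapU hω α 1 * h * (D.mapU hω α 1)⁻¹) := hh.conj hω hα1 hαa 1
    have hh₀U : InU D a h₀ := hUc.mul hh.inv
    have hh₀M : h₀ ∈ M := M.mul_mem (M.mul_mem (M.mul_mem (hM.sp _ hα1) hhM) (M.inv_mem (hM.sp _ hα1)))
      (M.inv_mem hhM)
    have hsig : ∀ m, ω a m = 0 → D.sig a' h₀ m = ω (-m₀) m • D.sig a' h m₀ := by
      intro m hm
      rw [hh₀, TD.sig_mul hω hUc hh.inv hm, TD.sig_inv hω hh hm]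
      have e1 : m = α.1 (m - ω m₀ m • m₀) := by
        rw [hα, tv_apply, map_sub, map_smul, hω.alt, smul_zero, sub_zero, one_mul, sub_add_cancel]
      have e2 : ω a (m - ω m₀ m • m₀) = 0 := by rw [map_sub, hm, map_smul, hm₀, smul_zero, sub_zero]
      have e3 := sig_conj hω hh haa' hα1 hαa 1 e2
      rw [← e1] at e3
      rw [e3, inv_one, Units.val_one, one_mul, mul_one]
      have e4 : m - ω m₀ m • m₀ = m + (-ω m₀ m) • m₀ := by rw [neg_smul, sub_eq_add_neg]
      rw [e4, TD.sig_add, TD.sig_smul, map_neg, LinearMap.neg_apply]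
      abel
    obtain ⟨γ, hγ, hγa, hγn⟩ := exists_iso hω (a := a) (x := -m₀) (y := n)
      (by rw [map_neg, hm₀, neg_zero]) hn (fun c hc => hm₀' (-c) (by rw [neg_smul, ← hc, neg_neg])) hna
    refine ⟨D.mapU hω γ 1 * h₀ * (D.mapU hω γ 1)⁻¹,
      M.mul_mem (M.mul_mem (hM.sp _ hγ) hh₀M) (M.inv_mem (hM.sp _ hγ)), hh₀U.conj hω hγ hγa 1, ?_⟩
    intro m hm
    have e1 : m = γ.1 ((γ⁻¹).1 m) := (apply_inv γ m).symm
    have e2 : ω a ((γ⁻¹).1 m) = 0 := by rw [← hγ, hγa, apply_inv, hm]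
    have e3 := sig_conj hω hh₀U haa' hγ hγa 1 e2
    rw [← e1] at e3
    rw [e3, inv_one, Units.val_one, one_mul, mul_one, hsig _ e2, ← hγ, hγn, apply_inv]
  -- the symbols are scalar
  have hscal : ∀ m, ω a m = 0 → ∃ τ : F, D.sig a' g m = τ • 1 := by
    intro m hm
    by_cases hma : ∃ c : F, m = c • a
    · obtain ⟨c, rfl⟩ := hma
      exact ⟨0, by rw [TD.sig_smul, TD.sig_self hg, smul_zero, zero_smul]⟩
    push Not at hma
    have hmT := hpure g hgM hg m hm hma
    refine hT T hT1 ?_ ?_ _ hmT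
    · intro β hβ s hs n hn
      obtain ⟨h, h1, h2, h3⟩ := hs n hn
      refine ⟨D.mapU hω 1 β * h * (D.mapU hω 1 β)⁻¹,
        M.mul_mem (M.mul_mem hβ h1) (M.inv_mem hβ), h2.conj hω IsoW.one rfl β, fun m' hm' => ?_⟩
      have e3 := sig_conj hω h2 haa' IsoW.one rfl β hm'
      rw [Units.val_one, Module.End.one_apply, h3 m' hm', mul_smul_comm, smul_mul_assoc] at e3
      exact e3
    · intro s hs s' hs'
      -- choose `n₁`, `n₂`
      obtain ⟨n₂, hn₂, hn₁₂⟩ : ∃ n₂, ω a n₂ = 0 ∧ ω m n₂ = 1 := by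
        by_contra hcon
        push Not at hcon
        obtain ⟨c, hc⟩ := hω.eq_smul_of_perp (a := a) (u := m) ha (by
          intro n hn
          by_contra hne
          apply hcon ((ω m n)⁻¹ • n) (by rw [map_smul, hn, smul_zero])
          rw [map_smul, smul_eq_mul, inv_mul_cancel₀ hne])
        exact hma c hc
      obtain ⟨h, h1, h2, h3⟩ := hs m hm
      obtain ⟨h', h1', h2', h3'⟩ := hs' n₂ hn₂
      obtain ⟨τ, hτ⟩ := constraint hω hf hM haa' h1 h1' h2 h2'
      have hp : ∀ x : (Module.End F V)ˣ, InU D a x → ∀ (n : Fin k → F) (r : Module.End F B), ω a n = 0 →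
          (∀ m', ω a m' = 0 → D.sig a' x m' = ω n m' • r) →
          ∀ b, ∃ b', x.1 (D.ι a' b) - D.ι a' b = D.ι a b' - D.ι n (r b) := by
        intro x hx n r hn hxr b
        obtain ⟨b', hb'⟩ := D.exists_of_perp hω ha (v := x.1 (D.ι a' b) - D.ι a' b + D.ι n (r b)) (by
          intro m' hm'
          have := LinearMap.congr_fun (hxr m' hm') b
          rw [TD.sig_apply, ← map_sub, LinearMap.smul_apply] at this
          rw [map_add, this, D.κι, hω.skew m' n, neg_smul, add_neg_cancel])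
        exact ⟨b', by rw [← hb']; abel⟩
      refine ⟨τ, fun b b' => ?_⟩
      obtain ⟨x1, hx1⟩ := hp h h2 m s hm h3 b
      obtain ⟨x2, hx2⟩ := hp h' h2' n₂ s' hn₂ h3' b'
      obtain ⟨x3, hx3⟩ := hp h' h2' n₂ s' hn₂ h3' b
      obtain ⟨x4, hx4⟩ := hp h h2 m s hm h3 b'
      have h5 := hτ b b'
      have hma' : ω m a = 0 := by rw [hω.skew, hm, neg_zero]
      have hn₂a : ω n₂ a = 0 := by rw [hω.skew, hn₂, neg_zero]
      have hn₂m : ω n₂ m = -1 := by rw [hω.skew, hn₁₂]
      rw [hx1, hx2, hx3, hx4] at h5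
      simp only [map_sub, LinearMap.sub_apply, hf.ιι, hω.alt, hm, hn₂, hma', hn₂a, hn₁₂, hn₂m] at h5
      linear_combination h5
  -- the vector
  obtain ⟨b₀, hb₀⟩ := exists_ne (0 : B)
  obtain ⟨ψ, hψ⟩ : ∃ ψ : B →ₗ[F] F, ψ b₀ = 1 := by
    obtain ⟨ψ, hψ⟩ : ∃ ψ : B →ₗ[F] F, ψ b₀ ≠ 0 := by
      by_contra hcon
      push Not at hcon
      exact hb₀ ((Module.forall_dual_apply_eq_zero_iff F b₀).1 hcon)
    exact ⟨(ψ b₀)⁻¹ • ψ, by rw [LinearMap.smul_apply, smul_eq_mul, inv_mul_cancel₀ hψ]⟩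
  -- a vector with the same symbol
  obtain ⟨n, hn⟩ := hω.exists_repr ((ψ ∘ₗ (LinearMap.applyₗ b₀)) ∘ₗ
    ({ toFun := fun m => D.sig a' g m
       map_add' := D.sig_add a' g
       map_smul' := fun c m => D.sig_smul a' g c m } : (Fin k → F) →ₗ[F] Module.End F B))
  have hnm : ∀ m, ω a m = 0 → D.sig a' g m = ω n m • 1 := by
    intro m hm
    obtain ⟨τ, hτ⟩ := hscal m hm
    rw [hn m]
    show D.sig a' g m = ψ (D.sig a' g m b₀) • 1
    rw [hτ, LinearMap.smul_apply, Module.End.one_apply, map_smul, hψ, smul_eq_mul, mul_one]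
  have hna : ω a n = 0 := by
    rw [hω.skew, hn a]
    show -ψ (D.sig a' g a b₀) = 0
    rw [TD.sig_self hg, LinearMap.zero_apply, map_zero, neg_zero]
  have hsM := hM.sp _ (isoW_sg hω hna)
  have hgU : InU D a (D.mapU hω (sg hω hna) 1 * g) := (inU_sg hω D hna).mul hg
  obtain ⟨r, hr⟩ := eq_cs_of_sig_zero hω hf haa' hgU (hM.isom _ (M.mul_mem hsM hgM)) (fun m hm => by
    rw [TD.sig_mul hω (inU_sg hω D hna) hg hm, sig_sg hω D hna haa' hm, hnm m hm, neg_add_cancel])
  obtain ⟨τ, hτ⟩ := hM.caseI a ha r _ (M.mul_mem hsM hgM) hr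
  have h1 : D.mapU hω (sg hω hna) 1 * g = D.mapU hω (tv hω τ a) 1 := by
    apply Units.ext
    rw [hr, mapU_tv_val, hτ]
  refine ⟨(sg hω hna)⁻¹ * tv hω τ a, (isoW_sg hω hna).inv.mul (isoW_tv hω τ a), ?_, ?_⟩
  · rw [mul_app, tv_apply, hω.alt, mul_zero, zero_smul, add_zero]
    have h2 := inv_apply (sg hω hna) a
    rwa [sg_fix] at h2
  · have h2 := D.mapU_mul hω (sg hω hna)⁻¹ (tv hω τ a) 1 1
    rw [mul_one] at h2
    rw [← h2, ← h1, ← mul_assoc, D.mapU_mul, inv_mul_cancel, mul_one, D.mapU_one, one_mul]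

end Main

end Cfsg.Agent.H889.C7
end
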